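import Cfsg.Agent.ThCent69.Model.QChecks
import Cfsg.Agent.ThCent69.Count
import Cfsg.Agent.CosetEnum.Present
import Cfsg.Agent.PGroup.Extraspecial
import Cfsg.Prelude.Def_Transfer

/-!
Group-theoretic consequences of the checks on 819 points: the subgroup generated by the eight
conjugates of `c`, and the centraliser bound for `a c e`.
-/

set_option autoImplicit false
set_option maxRecDepth 100000

namespace CfsgLib.ThCent69.Model

open CfsgLib.CosetEnum Subgroup
open scoped commutatorElement

/-- the permutation of a letter -/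
noncomputable abbrev sg : ℕ → Equiv.Perm (Fin 819) := ok.sigma

/-- the permutation of a word -/
noncomputable def pw (w : List ℕ) : Equiv.Perm (Fin 819) := gword sg w

theorem pw_def (w : List ℕ) : pw w = gword sg w := rfl

theorem pw_nil : pw [] = 1 := rfl

theorem gword_append {G : Type*} [Group G] (g : ℕ → G) (v w : List ℕ) :
    gword g (v ++ w) = gword g v * gword g w := by
  simp [gword]

theorem pw_append (v w : List ℕ) : pw (v ++ w) = pw v * pw w := gword_append sg v w

theorem pw_cons (x : ℕ) (w : List ℕ) : pw (x :: w) = sg x * pw w := gword_cons sg x w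

theorem sg_xor (x : ℕ) : sg (x ^^^ 1) = (sg x)⁻¹ :=
  ok.sigma_iv_all (fun y hy h => hy (by
    have h2 : (y ^^^ 1) ^^^ 1 = y := by simp [Nat.xor_assoc]
    have hiv := (ok.iv_lt (show (y ^^^ 1) < data.L from h)).1
    exact h2 ▸ hiv)) x

theorem pw_winv (w : List ℕ) : pw (winv w) = (pw w)⁻¹ :=
  gword_inverse sg (fun x => x ^^^ 1) sg_xor w

theorem runT_eq (w : List ℕ) (hw : ∀ x ∈ w, x < 14) (i : Fin 819) :
    runT TF 14 w i = (((pw w)⁻¹ i : Fin 819) : ℕ) := (ok.gword_inv_apply w hw i).symm

theorem code_eq {pts v w : List ℕ} (hp : ∀ p ∈ pts, p < 819) (hv : ∀ x ∈ v, x < 14)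
    (hw : ∀ x ∈ w, x < 14) (h : pw v = pw w) : code pts v = code pts w := by
  suffices key : ∀ r, pts.foldl (fun r p => r * 819 + runT TF 14 v p) r =
      pts.foldl (fun r p => r * 819 + runT TF 14 w p) r from key 0
  intro r
  induction pts generalizing r with
  | nil => rfl
  | cons p l ih =>
    have hp' : p < 819 := hp p List.mem_cons_self
    rw [List.foldl_cons, List.foldl_cons, show runT TF 14 v p = runT TF 14 w p from
      (runT_eq v hv ⟨p, hp'⟩).trans (h ▸ (runT_eq w hw ⟨p, hp'⟩).symm)]
    exact ih (fun q hq => hp q (List.mem_cons_of_mem _ hq)) _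

theorem increasing_lt : ∀ (l : List ℕ), increasing l = true → l.Pairwise (· < ·)
  | [], _ => List.Pairwise.nil
  | [_], _ => List.pairwise_singleton _ _
  | x :: y :: l, h => by
    rw [increasing, Bool.and_eq_true] at h
    have hxy : x < y := by simpa [Nat.blt, Nat.ble_eq] using h.1
    have ih := increasing_lt (y :: l) h.2
    refine List.pairwise_cons.2 ⟨fun z hz => ?_, ih⟩
    rcases List.mem_cons.1 hz with rfl | hz
    · exact hxy
    · exact hxy.trans ((List.pairwise_cons.1 ih).1 z hz)

theorem index_injective {l : List ℕ} (h : increasing l = true) {i j : ℕ} (hi : i < l.length)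
    (hj : j < l.length) (he : l[i] = l[j]) : i = j :=
  by
  have hnd : l.Nodup := (increasing_lt l h).imp fun {_ _} => ne_of_lt
  exact hnd.getElem_inj_iff.1 he

/-! ### the subgroup generated by the eight conjugates of `c` -/

/-- the subgroup generated by the eight conjugates -/
noncomputable def Y : Subgroup (Equiv.Perm (Fin 819)) :=
  closure {a | ∃ i < 8, pw (qWords.getD i []) = a}

theorem q_lt (i : ℕ) : ∀ x ∈ qWords.getD i [], x < 14 := by
  intro x hx
  have h := qLetters
  simp only [List.all_eq_true, Nat.blt, Nat.ble_eq] at h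
  by_cases hi : i < qWords.length
  · rw [List.getD_eq_getElem _ _ hi] at hx
    exact h _ (List.getElem_mem hi) x hx
  · rw [List.getD_eq_default _ _ (not_lt.1 hi)] at hx
    simp at hx

theorem flat_lt (e : List ℕ) : ∀ x ∈ flat e, x < 14 := by
  intro x hx
  obtain ⟨k, -, hk⟩ := List.mem_flatMap.1 hx
  exact q_lt k x hk

theorem gen_mem (i : ℕ) : pw (qWords.getD i []) ∈ Y := by
  by_cases hi : i < 8
  · exact subset_closure ⟨i, hi, rfl⟩
  · rw [List.getD_eq_default _ _ (by
      have : qWords.length = 8 := by decide +kernel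
      omega), pw_nil]
    exact one_mem Y

theorem flat_mem (e : List ℕ) : pw (flat e) ∈ Y := by
  induction e with
  | nil => rw [show flat [] = [] from rfl, pw_nil]; exact one_mem Y
  | cons k e ih =>
    rw [flat, List.flatMap_cons, pw_append]
    exact mul_mem (gen_mem k) ih

theorem qPts_lt : ∀ p ∈ qPts, p < 819 := by decide +kernel

theorem aPts_lt : ∀ p ∈ aPts, p < 819 := by decide +kernel

/-- the element with number `k` -/
noncomputable def elt (k : Fin 512) : Y := ⟨pw (flat (qElts.getD k [])), flat_mem _⟩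

theorem code_injective {i j : Fin 512}
    (h : code qPts (flat (qElts.getD i [])) = code qPts (flat (qElts.getD j []))) : i = j := by
  have hi : (i : ℕ) < qElts.length := i.2.trans_eq qElts_length.symm
  have hj : (j : ℕ) < qElts.length := j.2.trans_eq qElts_length.symm
  refine Fin.ext (index_injective qElts_inc (by simpa using hi) (by simpa using hj) ?_)
  rw [List.getElem_map, List.getElem_map]
  rw [List.getD_eq_getElem _ _ hi, List.getD_eq_getElem _ _ hj] at h
  exact h

theorem elt_injective : Function.Injective elt := fun i j h =>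
  code_injective (code_eq qPts_lt (flat_lt _) (flat_lt _) (congrArg Subtype.val h))

theorem le_card_Y : 512 ≤ Nat.card Y := by
  simpa using Nat.card_le_card_of_injective elt elt_injective

theorem pw_a_eq : pw [0] = pw (flat (qElts.getD 158 [])) := by
  refine inv_injective (Equiv.ext fun i => Fin.ext ?_)
  rw [← runT_eq [0] (by simp) i, ← runT_eq _ (flat_lt _) i]
  have h := RangeChecked.all (RangeChecked.app 819 819 RangeChecked.zero a_elt (Nat.zero_add 819)) i i.2
  exact (beq_iff_eq.1 h).symm

theorem a_mem : pw [0] ∈ Y := by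
  rw [pw_a_eq]
  exact flat_mem _

variable (hY : Nat.card Y ≤ 512)
include hY

theorem card_Y : Nat.card Y = 512 := le_antisymm hY le_card_Y

theorem elt_bijective : Function.Bijective elt := by
  refine (Nat.bijective_iff_injective_and_card elt).2 ⟨elt_injective, ?_⟩
  rw [Nat.card_fin, card_Y hY]

theorem eq_of_code {v w : List ℕ} (hv : ∀ x ∈ v, x < 14) (hw : ∀ x ∈ w, x < 14) (mv : pw v ∈ Y)
    (mw : pw w ∈ Y) (h : code qPts v = code qPts w) : pw v = pw w := by
  obtain ⟨i, hi⟩ := (elt_bijective hY).2 ⟨_, mv⟩
  obtain ⟨j, hj⟩ := (elt_bijective hY).2 ⟨_, mw⟩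
  have ei : pw (flat (qElts.getD i [])) = pw v := congrArg Subtype.val hi
  have ej : pw (flat (qElts.getD j [])) = pw w := congrArg Subtype.val hj
  rw [← ei, ← ej, code_injective (i := i) (j := j) (by
    rw [code_eq qPts_lt (flat_lt _) hv ei, h, ← code_eq qPts_lt (flat_lt _) hw ej])]

theorem isExtraspecial : Cfsg.IsExtraspecial 2 Y := by
  haveI : Fact (Nat.Prime 2) := ⟨Nat.prime_two⟩
  have hcard := card_Y hY
  let za : Y := ⟨pw [0], a_mem⟩
  have hq : ∀ i, i < 8 → ∀ j, j < 8 →
      ⁅pw (qWords.getD i []), pw (qWords.getD j [])⁆ = 1 ∨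
        ⁅pw (qWords.getD i []), pw (qWords.getD j [])⁆ = pw [0] := by
    intro i hi j hj
    have h := qComm
    simp only [List.all_eq_true, List.mem_range, Bool.or_eq_true, beq_iff_eq] at h
    let p := qWords.getD i []
    let q := qWords.getD j []
    have hpq : pw (p ++ q ++ winv p ++ winv q) = ⁅pw p, pw q⁆ := by
      rw [commutatorElement_def, pw_append, pw_append, pw_append, pw_winv, pw_winv]
    have hlt : ∀ x ∈ p ++ q ++ winv p ++ winv q, x < 14 := by
      have hinv : ∀ (r : List ℕ), (∀ x ∈ r, x < 14) → ∀ x ∈ winv r, x < 14 := by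
        intro r hr x hx
        obtain ⟨y, hy, rfl⟩ := List.mem_map.1 hx
        have := hr y (List.mem_reverse.1 hy)
        exact (ok.iv_lt (show y < data.L from this)).1
      intro x hx
      simp only [List.mem_append] at hx
      rcases hx with ((hx | hx) | hx) | hx
      exacts [q_lt i x hx, q_lt j x hx, hinv _ (q_lt i) x hx, hinv _ (q_lt j) x hx]
    have hm : pw (p ++ q ++ winv p ++ winv q) ∈ Y := by
      rw [hpq, commutatorElement_def]
      exact mul_mem (mul_mem (mul_mem (gen_mem i) (gen_mem j)) (inv_mem (gen_mem i)))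
        (inv_mem (gen_mem j))
    rw [← hpq]
    rcases h i hi j hj with h' | h'
    · exact Or.inl ((eq_of_code hY hlt (by simp) hm (pw_nil ▸ one_mem Y) h').trans pw_nil)
    · exact Or.inr (eq_of_code hY hlt (by simp) hm a_mem h')
  have hac : za ∈ center Y := by
    refine mem_center_iff.2 fun y => ?_
    obtain ⟨y, hy⟩ := y
    refine Subtype.ext ?_
    show y * pw [0] = pw [0] * y
    induction hy using Subgroup.closure_induction with
    | mem z hz =>
      obtain ⟨i, hi, rfl⟩ := hz
      have h := aCentral
      simp only [List.all_eq_true, List.mem_range, beq_iff_eq] at h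
      have e := eq_of_code hY (v := [0] ++ qWords.getD i []) (w := qWords.getD i [] ++ [0])
        (fun x hx => by
          rcases List.mem_append.1 hx with hx | hx
          · simp at hx; omega
          · exact q_lt i x hx)
        (fun x hx => by
          rcases List.mem_append.1 hx with hx | hx
          · exact q_lt i x hx
          · simp at hx; omega)
        (by rw [pw_append]; exact mul_mem a_mem (gen_mem i))
        (by rw [pw_append]; exact mul_mem (gen_mem i) a_mem) (h i hi)
      rw [pw_append, pw_append] at e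
      exact e.symm
    | one => simp
    | mul u v _ _ hu hv => rw [mul_assoc, hv, ← mul_assoc, hu, mul_assoc]
    | inv u _ hu => exact ((Commute.inv_left (hu : Commute u (pw [0]))) : _)
  have hone : elt ⟨120, by decide⟩ = 1 := by
    refine Subtype.ext ?_
    show pw (flat (qElts.getD 120 [])) = 1
    have h120 : 120 < qElts.length := by rw [qElts_length]; decide
    have h := one_elt
    rw [List.getD_eq_getElem _ _ h120] at h
    rw [List.getD_eq_getElem _ _ h120, h, show flat [] = [] from rfl, pw_nil]
  have ha : elt ⟨158, by decide⟩ = za := Subtype.ext pw_a_eq.symm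
  have hne : za ≠ 1 := fun h => absurd (elt_injective ((ha.trans h).trans hone.symm)) (by decide)
  have hnc : ∀ k : Fin 512, (k : ℕ) = 120 ∨ (k : ℕ) = 158 ∨
      ∃ q : Y, elt k * q ≠ q * elt k := by
    intro k
    have h := qCenter
    simp only [List.all_eq_true, List.mem_range, Bool.or_eq_true, Bool.and_eq_true, beq_iff_eq,
      Bool.not_eq_true', beq_eq_false_iff_ne] at h
    rcases h k k.2 with (h' | h') | ⟨-, h'⟩
    · exact Or.inl h'
    · exact Or.inr (Or.inl h')
    refine Or.inr (Or.inr ⟨⟨pw (qWords.getD (qWitness.getD k 8) []), gen_mem _⟩, fun he => h' ?_⟩)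
    refine code_eq qPts_lt ?_ ?_ ?_
    · intro x hx
      rcases List.mem_append.1 hx with hx | hx
      exacts [flat_lt _ x hx, q_lt _ x hx]
    · intro x hx
      rcases List.mem_append.1 hx with hx | hx
      exacts [q_lt _ x hx, flat_lt _ x hx]
    · rw [pw_append, pw_append]
      exact congrArg Subtype.val he
  have hcen : ∀ z : Y, z ∈ center Y → z = 1 ∨ z = za := by
    intro z hz
    obtain ⟨k, rfl⟩ := (elt_bijective hY).2 z
    rcases hnc k with hk | hk | ⟨q, hq'⟩
    · exact Or.inl ((congrArg elt (Fin.ext hk)).trans hone)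
    · exact Or.inr ((congrArg elt (Fin.ext hk)).trans ha)
    · exact absurd (mem_center_iff.1 hz q).symm hq'
  have hZ : Nat.card (center Y) = 2 := by
    refine Nat.card_eq_two_iff.2 ⟨1, ⟨za, hac⟩, fun h => hne (congrArg Subtype.val h).symm, ?_⟩
    ext z
    simp only [Set.mem_insert_iff, Set.mem_singleton_iff, Set.mem_univ, iff_true]
    rcases hcen z z.2 with h | h
    · exact Or.inl (Subtype.ext h)
    · exact Or.inr (Subtype.ext h)
  have hgen : Subgroup.closure {y : Y | ∃ i < 8, pw (qWords.getD i []) = (y : Equiv.Perm (Fin 819))} = ⊤ := by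
    apply map_injective Y.subtype_injective
    rw [MonoidHom.map_closure, ← MonoidHom.range_eq_map, range_subtype]
    show _ = Subgroup.closure _
    congr 1
    ext a
    constructor
    · rintro ⟨y, ⟨i, hi, he⟩, rfl⟩
      exact ⟨i, hi, he⟩
    · rintro ⟨i, hi, rfl⟩
      exact ⟨⟨_, gen_mem i⟩, ⟨i, hi, rfl⟩, rfl⟩
  let f := QuotientGroup.mk' (center Y)
  have hcenC : ∀ y : Y, ((y : Equiv.Perm (Fin 819)) = 1 ∨ (y : Equiv.Perm (Fin 819)) = pw [0]) →
      y ∈ center Y := by
    rintro y (h | h)
    · rw [show y = 1 from Subtype.ext h]; exact one_mem _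
    · rw [show y = za from Subtype.ext h]; exact hac
  have hcomm : ∀ x y : Y, ⁅x, y⁆ ∈ center Y := by
    intro x y
    rw [← QuotientGroup.eq_one_iff, show ((⁅x, y⁆ : Y) : Y ⧸ center Y) = ⁅f x, f y⁆ from
      map_commutatorElement f x y, commutatorElement_eq_one_iff_mul_comm]
    have hx : x ∈ Subgroup.closure {y : Y | ∃ i < 8, pw (qWords.getD i []) =
      (y : Equiv.Perm (Fin 819))} := hgen ▸ mem_top x
    have hy : y ∈ Subgroup.closure {y : Y | ∃ i < 8, pw (qWords.getD i []) =
      (y : Equiv.Perm (Fin 819))} := hgen ▸ mem_top y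
    show Commute (f x) (f y)
    induction hx using Subgroup.closure_induction with
    | mem u hu =>
      induction hy using Subgroup.closure_induction with
      | mem v hv =>
        obtain ⟨i, hi, hiu⟩ := hu
        obtain ⟨j, hj, hjv⟩ := hv
        rw [commute_iff_eq, ← commutatorElement_eq_one_iff_mul_comm, ← map_commutatorElement,
          QuotientGroup.mk'_apply, QuotientGroup.eq_one_iff]
        refine hcenC _ ?_
        rw [show ((⁅u, v⁆ : Y) : Equiv.Perm (Fin 819)) =
          ⁅(u : Equiv.Perm (Fin 819)), (v : Equiv.Perm (Fin 819))⁆ from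
          map_commutatorElement Y.subtype u v, ← hiu, ← hjv]
        exact hq i hi j hj
      | one => rw [map_one]; exact Commute.one_right _
      | mul v w _ _ hv hw => rw [map_mul]; exact hv.mul_right hw
      | inv v _ hv => rw [map_inv]; exact hv.inv_right
    | one => rw [map_one]; exact Commute.one_left _
    | mul v w _ _ hv hw => rw [map_mul]; exact hv.mul_left hw
    | inv v _ hv => rw [map_inv]; exact hv.inv_left
  have hsq : ∀ x : Y, x ^ 2 ∈ center Y := by
    intro x
    rw [← QuotientGroup.eq_one_iff, show ((x ^ 2 : Y) : Y ⧸ center Y) = f x ^ 2 from map_pow f x 2]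
    have hx : x ∈ Subgroup.closure {y : Y | ∃ i < 8, pw (qWords.getD i []) =
      (y : Equiv.Perm (Fin 819))} := hgen ▸ mem_top x
    have hc : ∀ u v : Y, Commute (f u) (f v) := fun u v => by
      rw [commute_iff_eq, ← commutatorElement_eq_one_iff_mul_comm, ← map_commutatorElement,
        QuotientGroup.mk'_apply, QuotientGroup.eq_one_iff]
      exact hcomm u v
    induction hx using Subgroup.closure_induction with
    | mem u hu =>
      obtain ⟨i, hi, hiu⟩ := hu
      rw [← map_pow, QuotientGroup.mk'_apply, QuotientGroup.eq_one_iff]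
      refine hcenC _ (Or.inl ?_)
      have h := qSq
      simp only [List.all_eq_true, List.mem_range, beq_iff_eq] at h
      have e := eq_of_code hY (v := qWords.getD i [] ++ qWords.getD i []) (w := [])
        (fun z hz => (List.mem_append.1 hz).elim (q_lt i z) (q_lt i z)) (by simp)
        (by rw [pw_append]; exact mul_mem (gen_mem i) (gen_mem i)) (pw_nil ▸ one_mem Y) (h i hi)
      rw [pw_append, pw_nil] at e
      rw [SubgroupClass.coe_pow, pow_two, ← hiu]
      exact e
    | one => rw [map_one, one_pow]
    | mul v w _ _ hv hw => rw [map_mul, (hc v w).mul_pow, hv, hw, one_mul]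
    | inv v _ hv => rw [map_inv, inv_pow, hv, inv_one]
  have hnab : ∃ x y : Y, x * y ≠ y * x := by
    rcases hnc ⟨0, by decide⟩ with h | h | ⟨q, hq'⟩
    · exact absurd h (by decide)
    · exact absurd h (by decide)
    · exact ⟨_, q, hq'⟩
  exact PGroup.isExtraspecial_of (IsPGroup.of_card (n := 9) (by rw [hcard]; norm_num)) hZ hnab
    hcomm hsq

omit hY

/-! ### the centraliser of `a c e` -/

/-- In a finite group acting on the 819 points through the table, the centraliser of `a c e` is
at most `27 / 2016` of a point stabiliser. -/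
theorem card_centralizer_ace_le {X : Type*} [Group X] [Finite X]
    (ψ : X →* Equiv.Perm (Fin 819)) (xs : ℕ → X) (hψ : ∀ x < 14, ψ (xs x) = sg x) :
    Nat.card ↥(centralizer ({gword xs [0, 4, 8]} : Set X)) * 2016 * 819 ≤ 27 * Nat.card X := by
  letI : MulAction X (Fin 819) := MulAction.compHom (Fin 819) ψ
  have happ : ∀ (w : List ℕ), (∀ x ∈ w, x < 14) → ψ (gword xs w) = pw w := fun w hw => by
    rw [gword_map, pw_def]
    exact gword_congr _ _ fun x hx => hψ x (hw x hx)
  have hsm : ∀ (w : List ℕ), (∀ x ∈ w, x < 14) → ∀ i : Fin 819, gword xs w • i = pw w i :=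
    fun w hw i => by
    show ψ (gword xs w) i = _
    rw [happ w hw]
  let p : Fin 819 := ⟨0, by decide⟩
  have hfix : ∀ w : List ℕ, (∀ x ∈ w, x < 14 ∧ x ≠ 2 ∧ x ≠ 3) → pw w p = p := by
    intro w hw
    induction w with
    | nil => rw [pw_nil]; rfl
    | cons x w ih =>
      rw [pw_cons, Equiv.Perm.mul_apply,
        ih fun y hy => hw y (List.mem_cons_of_mem _ hy)]
      have h := fix_zero
      simp only [List.all_eq_true, List.mem_range, Bool.or_eq_true, beq_iff_eq] at h
      obtain ⟨hx, hx2, hx3⟩ := hw x List.mem_cons_self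
      have h' := (h x hx).resolve_left (by rintro (h | h) <;> contradiction)
      have e : (sg x)⁻¹ p = p := Fin.ext ((ok.sigma_inv_apply hx p).trans (by
        rw [runT_cons, runT_nil] at h'
        exact h'))
      conv_lhs => rw [← e]
      exact (sg x).apply_symm_apply p
  have hlen : aConj.length = 2016 := aConj_length
  let y : Fin 2016 → X := fun i => gword xs (aConj.getD i [])
  have hlet : ∀ i : Fin 2016, ∀ x ∈ aConj.getD i [], x < 14 ∧ x ≠ 2 ∧ x ≠ 3 := by
    intro i x hx
    have hi : (i : ℕ) < aConj.length := i.2.trans_eq hlen.symm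
    rw [List.getD_eq_getElem _ _ hi] at hx
    have h := aConj_letters
    simp only [List.all_eq_true, Bool.and_eq_true, Nat.blt, Nat.ble_eq, Bool.not_eq_true',
      beq_eq_false_iff_ne] at h
    obtain ⟨⟨h1, h2⟩, h3⟩ := h _ (List.getElem_mem hi) x hx
    exact ⟨h1, h2, h3⟩
  have hw0 : ∀ x ∈ [0, 4, 8], x < 14 ∧ x ≠ 2 ∧ x ≠ 3 := by decide
  have hconj : ∀ i : Fin 2016, ∀ x ∈ aConj.getD i [] ++ [0, 4, 8] ++ winv (aConj.getD i []),
      x < 14 := by
    intro i x hx
    simp only [List.mem_append] at hx
    rcases hx with (hx | hx) | hx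
    · exact (hlet i x hx).1
    · exact (hw0 x hx).1
    · obtain ⟨z, hz, rfl⟩ := List.mem_map.1 hx
      exact (ok.iv_lt (show z < data.L from (hlet i z (List.mem_reverse.1 hz)).1)).1
  have hinj : Function.Injective fun i => y i * gword xs [0, 4, 8] * (y i)⁻¹ := by
    intro i j hij
    have h := congrArg ψ hij
    simp only [map_mul, map_inv, y, happ _ fun x hx => (hlet _ x hx).1,
      happ _ fun x hx => (hw0 x hx).1] at h
    have hpw : ∀ i : Fin 2016, pw (aConj.getD i [] ++ [0, 4, 8] ++ winv (aConj.getD i [])) =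
        pw (aConj.getD i []) * pw [0, 4, 8] * (pw (aConj.getD i []))⁻¹ := fun i => by
      rw [pw_append, pw_append, pw_winv]
    have hc := code_eq aPts_lt (hconj i) (hconj j) (by rw [hpw, hpw, h])
    have hi : (i : ℕ) < aConj.length := i.2.trans_eq hlen.symm
    have hj : (j : ℕ) < aConj.length := j.2.trans_eq hlen.symm
    refine Fin.ext (index_injective aConj_inc (by simpa using hi) (by simpa using hj) ?_)
    rw [List.getElem_map, List.getElem_map]
    rw [List.getD_eq_getElem _ _ hi, List.getD_eq_getElem _ _ hj] at hc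
    exact hc
  have hb := card_centralizer_mul_le p (gword xs [0, 4, 8])
    (by rw [hsm _ fun x hx => (hw0 x hx).1, hfix _ hw0]) y
    (fun i => by rw [hsm _ fun x hx => (hlet i x hx).1, hfix _ (hlet i)]) hinj
  have hq : Nat.card {q : Fin 819 // gword xs [0, 4, 8] • q = q} ≤ 27 := by
    have h0 : ∀ q : Fin 819, gword xs [0, 4, 8] • q = q → runT TF 14 [0, 4, 8] q = q := by
      intro q hq
      rw [hsm _ fun x hx => (hw0 x hx).1] at hq
      rw [runT_eq _ (fun x hx => (hw0 x hx).1) q]
      conv_lhs => rw [← hq]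
      rw [Equiv.Perm.coe_inv, Equiv.symm_apply_apply]
    let l := (List.range 819).filter fun i => runT TF 14 [0, 4, 8] i == i
    have hl : ∀ q : {q : Fin 819 // gword xs [0, 4, 8] • q = q}, (q.1 : ℕ) ∈ l := fun q =>
      List.mem_filter.2 ⟨List.mem_range.2 q.1.2, beq_iff_eq.2 (h0 q.1 q.2)⟩
    refine (Nat.card_le_card_of_injective
      (fun q : {q : Fin 819 // gword xs [0, 4, 8] • q = q} =>
        (⟨(q.1 : ℕ), List.mem_toFinset.2 (hl q)⟩ : l.toFinset)) ?_).trans ?_
    · intro q r h
      exact Subtype.ext (Fin.ext (by simpa using h))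
    · rw [Nat.card_eq_fintype_card, Fintype.card_coe]
      exact (List.toFinset_card_le l).trans ace_fix.le
  have htr : ∀ i : Fin 819, ∃ x : X, x • p = i := by
    intro i
    obtain ⟨a, ha, rfl⟩ := ok.transitive i
    have : a ∈ ψ.range := by
      refine (closure_le _).2 ?_ ha
      rintro _ ⟨x, hx, rfl⟩
      exact ⟨xs x, hψ x hx⟩
    obtain ⟨x, rfl⟩ := this
    exact ⟨x, rfl⟩
  have horb : Nat.card (MulAction.orbit X p) = 819 := by
    rw [show MulAction.orbit X p = Set.univ from Set.eq_univ_of_forall fun i => htr i,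
      Nat.card_univ, Nat.card_fin]
  have hst : Nat.card (MulAction.stabilizer X p) * 819 = Nat.card X := by
    have h := Nat.card_congr (MulAction.orbitProdStabilizerEquivGroup X p)
    rw [Nat.card_prod, horb, mul_comm] at h
    exact h
  calc Nat.card ↥(centralizer ({gword xs [0, 4, 8]} : Set X)) * 2016 * 819
      ≤ 27 * Nat.card (MulAction.stabilizer X p) * 819 :=
        Nat.mul_le_mul_right _ (hb.trans (Nat.mul_le_mul_right _ hq))
    _ = 27 * Nat.card X := by rw [mul_assoc, hst]

end CfsgLib.ThCent69.Model
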