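import Cfsg.Agent.ThCent69.Model.Data

/-! The checks of the table of ³D₄(2):3 on 819 cosets. -/

set_option autoImplicit false
set_option maxRecDepth 100000

namespace CfsgLib.ThCent69.Model

open CfsgLib.CosetEnum

theorem letters_ok : data.lettersOK = true := by decide +kernel

theorem points0 : allFrom (checkPoint data.iv data.L data.rels data.T data.par data.n) 0 205 = true := by
  decide +kernel

theorem points1 : allFrom (checkPoint data.iv data.L data.rels data.T data.par data.n) 205 205 = true := by
  decide +kernel

theorem points2 : allFrom (checkPoint data.iv data.L data.rels data.T data.par data.n) 410 205 = true := by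
  decide +kernel

theorem points3 : allFrom (checkPoint data.iv data.L data.rels data.T data.par data.n) 615 204 = true := by
  decide +kernel

theorem ok : data.OK where
  hn := show (0 : ℕ) < 819 by decide
  letters := letters_ok
  point := RangeChecked.all
    (RangeChecked.app 204 819 (RangeChecked.app 205 615 (RangeChecked.app 205 410
      (RangeChecked.app 205 205 RangeChecked.zero points0 rfl) points1 rfl) points2 rfl) points3 rfl)

end CfsgLib.ThCent69.Model
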