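import Cfsg.Agent.ThCent69.Model.Checks
import Cfsg.Agent.ThCent69.Model.Words

/-! Kernel checks on the words in the letters of ³D₄(2):3. -/

set_option autoImplicit false
set_option maxRecDepth 100000

namespace CfsgLib.ThCent69.Model

open CfsgLib.CosetEnum

/-- images of some points, as one number -/
noncomputable def code (pts w : List ℕ) : ℕ :=
  pts.foldl (fun r p => r * 819 + runT TF 14 w p) 0

/-- the formal inverse of a word -/
def winv (w : List ℕ) : List ℕ := w.reverse.map fun x => x ^^^ 1

/-- strictly increasing -/
noncomputable def increasing : List ℕ → Bool
  | [] => true
  | [_] => true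
  | x :: y :: l => x.blt y && increasing (y :: l)

/-- the word of a product of the eight conjugates -/
def flat (e : List ℕ) : List ℕ := e.flatMap fun k => qWords.getD k []

theorem qLetters : qWords.all (fun w => w.all fun x => x.blt 14) = true := by decide +kernel

theorem qElts_lt : qElts.all (fun e => e.all fun k => k.blt 8) = true := by decide +kernel

theorem qElts_inc : increasing (qElts.map fun e => code qPts (flat e)) = true := by decide +kernel

theorem qElts_length : qElts.length = 512 := by decide +kernel

theorem a_elt :
    allFrom (fun i => runT TF 14 (flat (qElts.getD 158 [])) i == runT TF 14 [0] i) 0 819 = true := by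
  decide +kernel

theorem one_elt : qElts.getD 120 [0] = [] := by decide +kernel

theorem qComm : (List.range 8).all (fun i => (List.range 8).all fun j =>
    let p := qWords.getD i []
    let q := qWords.getD j []
    code qPts (p ++ q ++ winv p ++ winv q) == code qPts [] ||
      code qPts (p ++ q ++ winv p ++ winv q) == code qPts [0]) = true := by
  decide +kernel

theorem qSq : (List.range 8).all (fun i =>
    code qPts (qWords.getD i [] ++ qWords.getD i []) == code qPts []) = true := by
  decide +kernel

theorem aCentral : (List.range 8).all (fun i =>
    code qPts ([0] ++ qWords.getD i []) == code qPts (qWords.getD i [] ++ [0])) = true := by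
  decide +kernel

theorem qCenter : (List.range 512).all (fun k =>
    let e := flat (qElts.getD k [])
    let q := qWords.getD (qWitness.getD k 8) []
    k == 120 || k == 158 ||
      ((qWitness.getD k 8).blt 8 && !(code qPts (e ++ q) == code qPts (q ++ e)))) = true := by
  decide +kernel

theorem aConj_letters : aConj.all (fun w => w.all fun x =>
    x.blt 14 && !(x == 2) && !(x == 3)) = true := by decide +kernel

theorem aConj_length : aConj.length = 2016 := by decide +kernel

theorem aConj_inc :
    increasing (aConj.map fun w => code aPts (w ++ [0, 4, 8] ++ winv w)) = true := by
  decide +kernel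

theorem fix_zero : (List.range 14).all (fun x => x == 2 || x == 3 || runT TF 14 [x] 0 == 0) = true := by
  decide +kernel

theorem ace_fix : ((List.range 819).filter fun i => runT TF 14 [0, 4, 8] i == i).length = 27 := by
  decide +kernel

end CfsgLib.ThCent69.Model
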